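/-
Finite `p`-minimal groups.

* `le_normalizer_iSup_conj`: the join of the `T`-conjugates of `X` is normalised by `T`
* `le_or_le`: a normal subgroup contains `O^p` or lies in the maximal subgroup over the Sylow subgroup
* `inf_sylow_le_pCore`: subnormal subgroups inside that maximal subgroup
* `card_primeFactors_le_two`, `isNilpotent_of_normal_coprime`
-/
import Cfsg.Agent.EqLemmas
import Cfsg.Agent.Lib.PIrred.Basic
import Cfsg.Agent.Lib.Cores.Subnormal
import Cfsg.Agent.Lib.Coprime.Invariant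
import Cfsg.Agent.Lib.Coprime.PQ
import Cfsg.Agent.Lib.PLocal.Basic

set_option autoImplicit false

namespace Cfsg.Agent.PMinimal

open Subgroup
open scoped Pointwise

variable {G : Type*} [Group G]

theorem le_normalizer_iSup_conj (T X : Subgroup G) :
    T ≤ normalizer ((⨆ t : ↥T, X.map (MulAut.conj (t : G)).toMonoidHom : Subgroup G) : Set G) := by
  rw [le_normalizer_iff]
  intro g hg x hx
  have hle : (⨆ t : ↥T, X.map (MulAut.conj (t : G)).toMonoidHom) ≤
      (⨆ t : ↥T, X.map (MulAut.conj (t : G)).toMonoidHom).comap (MulAut.conj g).toMonoidHom := by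
    refine iSup_le fun t => map_le_iff_le_comap.2 fun y hy => ?_
    refine mem_iSup_of_mem (⟨g, hg⟩ * t) ⟨y, hy, ?_⟩
    show g * (t : G) * y * (g * (t : G))⁻¹ = g * ((t : G) * y * (t : G)⁻¹) * g⁻¹
    group
  exact hle hx

theorem le_iSup_conj (T X : Subgroup G) :
    X ≤ ⨆ t : ↥T, X.map (MulAut.conj (t : G)).toMonoidHom := fun x hx =>
  mem_iSup_of_mem (1 : ↥T) ⟨x, hx, by simp⟩

theorem isSubnormal_iSup_conj [Finite G] (T : Subgroup G) {X : Subgroup G} (hX : X.IsSubnormal) :
    (⨆ t : ↥T, X.map (MulAut.conj (t : G)).toMonoidHom).IsSubnormal := by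
  refine Cores.isSubnormal_sSup _ ?_
  rintro _ ⟨t, rfl⟩
  exact Cores.isSubnormal_conj_smul hX (t : G)

variable [Finite G] {p : ℕ} [Fact p.Prime] (S : Sylow p G) {M : Subgroup G}
  (hM : IsCoatom M) (hSM : (S : Subgroup G) ≤ M) (hP : Cfsg.IsPMinimal p G)

theorem existsUnique_coatom (S : Sylow p G) (hP : Cfsg.IsPMinimal p G) :
    ∃! M : Subgroup G, IsCoatom M ∧ (S : Subgroup G) ≤ M := (hP S).2

include hM hSM hP

/-- A proper subgroup over the Sylow subgroup lies in `M`. -/
theorem le_of_sylow_le {X : Subgroup G} (hSX : (S : Subgroup G) ≤ X) (hX : X ≠ ⊤) : X ≤ M :=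
  PIrred.le_of_ne_top (hP S).2 ⟨hM, hSM⟩ hSX hX

theorem eq_top_of_not_le {X : Subgroup G} (hSX : (S : Subgroup G) ≤ X) (hX : ¬ X ≤ M) : X = ⊤ :=
  PIrred.eq_top_of_not_le (hP S).2 ⟨hM, hSM⟩ hSX hX

theorem le_or_le (N : Subgroup G) [hN : N.Normal] : Cfsg.pResidual p G ≤ N ∨ N ≤ M := by
  by_cases h : (S : Subgroup G) ⊔ N = ⊤
  · exact Or.inl (Transfer.pResidual_le (PIrred.isPGroup_quotient_of_sup S.2 h))
  · exact Or.inr (le_sup_right.trans (le_of_sylow_le S hM hSM hP le_sup_left h))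

theorem not_pResidual_le : ¬ Cfsg.pResidual p G ≤ M := fun h =>
  hM.1 (top_le_iff.1 ((PReduced.pResidual_sup_sylow S).ge.trans (sup_le h hSM)))

theorem sylow_inf_normal_le_pCore (N : Subgroup G) [hN : N.Normal] (hNM : N ≤ M) :
    N ⊓ (S : Subgroup G) ≤ Cfsg.pCore p G := by
  set T := N ⊓ (S : Subgroup G) with hT
  have hST : (S : Subgroup G) ≤ normalizer (T : Set G) :=
    (le_inf (by rw [normalizer_eq_top]; exact le_top) le_normalizer).trans
      inf_normalizer_le_normalizer_inf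
  have hF := PReduced.frattini_sylow_inf S N
  have htop : normalizer (T : Set G) = ⊤ := by
    refine eq_top_of_not_le S hM hSM hP hST fun h => hM.1 (top_le_iff.1 ?_)
    rw [← hF]
    refine sup_le ?_ hNM
    rwa [inf_comm] at hT ⊢
  exact Cores.le_pCore (normalizer_eq_top_iff.1 htop) (S.2.to_le inf_le_right)

theorem inf_sylow_le_pCore (N : Subgroup G) (hN : N.IsSubnormal) (hNM : N ≤ M) :
    N ⊓ (S : Subgroup G) ≤ Cfsg.pCore p G := by
  set N₀ : Subgroup G := ⨆ t : ↥(S : Subgroup G), N.map (MulAut.conj (t : G)).toMonoidHom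
  have hN₀M : N₀ ≤ M := iSup_le fun t => by
    rintro _ ⟨x, hx, rfl⟩
    exact mul_mem (mul_mem (hSM t.2) (hNM hx)) (inv_mem (hSM t.2))
  obtain ⟨K, hK0, ⟨hKs, hKM, hKS⟩, hmax⟩ := Set.Finite.exists_le_maximal
    (s := {K : Subgroup G | K.IsSubnormal ∧ K ≤ M ∧ (S : Subgroup G) ≤ normalizer (K : Set G)})
    (Set.toFinite _) (a := N₀) ⟨isSubnormal_iSup_conj _ hN, hN₀M, le_normalizer_iSup_conj _ _⟩
  suffices hnor : K.Normal by
    haveI := hnor
    exact (inf_le_inf_right _ ((le_iSup_conj _ N).trans hK0)).trans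
      (sylow_inf_normal_le_pCore S hM hSM hP K hKM)
  by_contra hnn
  obtain ⟨g, hg, hle⟩ := Cores.exists_conj_le_normalizer hKs hnn
  set L : Subgroup G := ⨆ t : ↥(S : Subgroup G), (MulAut.conj g • K).map (MulAut.conj (t : G)).toMonoidHom
  have hLN : L ≤ normalizer (K : Set G) := iSup_le fun t => by
    rintro _ ⟨x, hx, rfl⟩
    exact mul_mem (mul_mem (hKS t.2) (hle hx)) (inv_mem (hKS t.2))
  have hKL : K ⊔ L ≤ normalizer (K : Set G) := sup_le le_normalizer hLN
  have hSL : (S : Subgroup G) ≤ normalizer ((K ⊔ L : Subgroup G) : Set G) :=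
    (le_inf hKS (le_normalizer_iSup_conj _ _)).trans (Cores.normalizer_inf_le_normalizer_sup K L)
  by_cases hLM : K ⊔ L ≤ M
  · have h1 : K ⊔ L ≤ K := hmax ⟨Cores.isSubnormal_sup hKs
      (isSubnormal_iSup_conj _ (Cores.isSubnormal_conj_smul hKs g)), hLM, hSL⟩ le_sup_left
    exact hg (Cores.conj_smul_le_iff_eq.1
      (((le_iSup_conj _ _).trans le_sup_right).trans h1))
  · refine hnn (normalizer_eq_top_iff.1 (eq_top_of_not_le S hM hSM hP hKS fun h => hLM ?_))
    exact hKL.trans h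

omit hM hSM hP

theorem eq_top_of_forall_sylow (K : Subgroup G)
    (h : ∀ (q : ℕ), q.Prime → q ∣ Nat.card G → ∃ Q : Sylow q G, (Q : Subgroup G) ≤ K) : K = ⊤ := by
  rw [← index_eq_one]
  by_contra hne
  obtain ⟨q, hq, hqd⟩ := Nat.exists_prime_and_dvd hne
  have : Fact q.Prime := ⟨hq⟩
  obtain ⟨Q, hQ⟩ := h q hq (hqd.trans K.index_dvd_card)
  exact Q.not_dvd_index (hqd.trans (index_dvd_of_le hQ))

omit [Finite G] in
theorem mem_pResidual_of_isPGroup {q : ℕ} [Fact q.Prime] (hqp : q ≠ p) {Q : Subgroup G}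
    (hQ : IsPGroup q ↥Q) : Q ≤ Cfsg.pResidual p G := fun x hx => by
  obtain ⟨k, hk⟩ := hQ ⟨x, hx⟩
  refine PIrred.mem_pResidual (Nat.Coprime.coprime_dvd_left
    (orderOf_dvd_of_pow_eq_one (show x ^ q ^ k = 1 by simpa using congrArg Subtype.val hk)) ?_)
  exact ((Nat.coprime_primes Fact.out Fact.out).2 hqp).pow_left k

include hM hSM hP

/-- If `O^p(G)` has a normal Sylow `p`-subgroup, at most two primes divide `|G|`. -/
theorem card_primeFactors_le_two
    (hT : ∀ T : Sylow p ↥(Cfsg.pResidual p G),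
      (T : Subgroup ↥(Cfsg.pResidual p G)).Normal) :
    (Nat.card G).primeFactors.card ≤ 2 := by
  set O := Cfsg.pResidual p G with hO
  haveI : O.Normal := PReduced.pResidual_normal p G
  obtain ⟨T₀⟩ := (inferInstance : Nonempty (Sylow p ↥O))
  haveI := hT T₀
  haveI : (T₀ : Subgroup ↥O).Characteristic := Sylow.characteristic_of_normal T₀ (hT T₀)
  set T := (T₀ : Subgroup ↥O).map O.subtype with hTdef
  haveI hTn : T.Normal := ConjAct.normal_of_characteristic_of_normal
  by_contra h3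
  refine hM.1 (eq_top_of_forall_sylow M fun q hq _ => ?_)
  haveI : Fact q.Prime := ⟨hq⟩
  by_cases hqp : q = p
  · subst hqp; exact ⟨S, hSM⟩
  obtain ⟨Q⟩ := (inferInstance : Nonempty (Sylow q G))
  have hQO : (Q : Subgroup G) ≤ O := mem_pResidual_of_isPGroup hqp Q.2
  set N := normalizer ((Q : Subgroup G) : Set G) ⊔ T with hN
  have hidx : ¬ p ∣ N.index := by
    intro hd
    have hNO : N ⊔ O = ⊤ := top_le_iff.1 ((Sylow.normalizer_sup_eq_top' Q hQO).ge.trans
      (sup_le_sup_right le_sup_left _))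
    have hN' : N.index = N.relIndex O := by
      have h1 := PLocal.card_sup_mul_card_inf (H := O) (K := N) (by rw [normalizer_eq_top]; exact le_top)
      rw [sup_comm, hNO, card_top] at h1
      have h2 : Nat.card ↥(O ⊓ N) * N.relIndex O = Nat.card ↥O := by
        rw [← inf_relIndex_right N O, inf_comm O N, ← relIndex_bot_left (N ⊓ O),
          relIndex_mul_relIndex _ _ _ bot_le inf_le_right, relIndex_bot_left]
      rw [← N.card_mul_index, ← h2] at h1
      refine Nat.eq_of_mul_eq_mul_left (Nat.mul_pos (Nat.card_pos (α := ↥N))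
        (Nat.card_pos (α := ↥(O ⊓ N)))) ?_
      linear_combination h1
    rw [hN'] at hd
    have hd2 := hd.trans (relIndex_dvd_of_le_left O (le_sup_right : T ≤ N))
    rw [hTdef, Subgroup.relIndex, subgroupOf, comap_map_eq_self_of_injective O.subtype_injective] at hd2
    exact T₀.not_dvd_index hd2
  obtain ⟨U₁⟩ := (inferInstance : Nonempty (Sylow p ↥N))
  have hUidx : ¬ p ∣ ((U₁ : Subgroup ↥N).map N.subtype).index := by
    rw [index_map_subtype]
    exact fun hd => ((Fact.out : p.Prime).dvd_mul.1 hd).elim U₁.not_dvd_index hidx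
  set U := (U₁.2.map N.subtype).toSylow hUidx with hUdef
  have hUN : (U : Subgroup G) ≤ N := by
    rw [hUdef, IsPGroup.toSylow_coe]; exact map_subtype_le _
  obtain ⟨g, hg⟩ := MulAction.exists_smul_eq G U S
  set Q' : Sylow q G := g • Q with hQ'
  have hTQ : ∀ R : Sylow q G, normalizer ((R : Subgroup G) : Set G) ⊔ T ≤
      normalizer (((R : Subgroup G) ⊔ T : Subgroup G) : Set G) := fun R =>
    sup_le ((le_inf le_rfl (by rw [normalizer_eq_top (H := T)]; exact le_top)).trans
      (Cores.normalizer_inf_le_normalizer_sup _ _)) (le_sup_right.trans le_normalizer)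
  have hSN : (S : Subgroup G) ≤ normalizer (((Q' : Subgroup G) ⊔ T : Subgroup G) : Set G) := by
    refine le_trans ?_ (hTQ Q')
    rw [← hg, Sylow.coe_subgroup_smul]
    refine (pointwise_smul_le_pointwise_smul_iff.2 hUN).trans (le_of_eq ?_)
    rw [hN, Subgroup.smul_sup, hQ']
    congr 1
    · rw [Sylow.coe_subgroup_smul]
      exact map_normalizer_eq_of_bijective _ (MulAut.conj g).bijective
    · exact hTn.conjAct (ConjAct.toConjAct g)
  refine ⟨Q', (le_sup_left.trans le_sup_left : (Q' : Subgroup G) ≤ (Q' : Subgroup G) ⊔ T ⊔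
      (S : Subgroup G)).trans (le_of_sylow_le S hM hSM hP le_sup_right fun htop => h3 ?_)⟩
  have hsub : (Nat.card G).primeFactors ⊆ {q, p} := by
    intro r hr
    obtain ⟨hr, hrd, -⟩ := Nat.mem_primeFactors.1 hr
    have h1 : ∀ A B : Subgroup G, B ≤ normalizer (A : Set G) →
        r ∣ Nat.card ↥(A ⊔ B : Subgroup G) → r ∣ Nat.card A ∨ r ∣ Nat.card B := by
      intro A B hAB hd
      refine (Nat.Prime.dvd_mul hr).1 ?_
      rw [← PLocal.card_sup_mul_card_inf hAB]
      exact hd.mul_right _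
    have h2 : ∀ {s : ℕ} (A : Subgroup G), s.Prime → IsPGroup s ↥A → r ∣ Nat.card A → r = s := by
      intro s A hs hA hd
      haveI : Fact s.Prime := ⟨hs⟩
      obtain ⟨k, hk⟩ := IsPGroup.iff_card.1 hA
      rw [hk] at hd
      exact (Nat.prime_dvd_prime_iff_eq hr hs).1 (hr.dvd_of_dvd_pow hd)
    rw [Finset.mem_insert, Finset.mem_singleton]
    have hd' : r ∣ Nat.card ↥((Q' : Subgroup G) ⊔ T ⊔ (S : Subgroup G) : Subgroup G) := by
      rwa [htop, card_top]
    rcases h1 _ _ hSN hd' with h | h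
    · rcases h1 _ _ (by rw [normalizer_eq_top]; exact le_top) (sup_comm (Q' : Subgroup G) T ▸ h)
        with h | h
      · exact Or.inr (h2 T Fact.out (T₀.2.map _) h)
      · exact Or.inl (h2 _ hq Q'.2 h)
    · exact Or.inr (h2 _ Fact.out S.2 h)
  exact (Finset.card_le_card hsub).trans Finset.card_le_two

/-- Normal subgroups of order prime to `p` are nilpotent. -/
theorem isNilpotent_of_normal_coprime (N : Subgroup G) [hN : N.Normal]
    (hp' : (Nat.card N).Coprime p) : Group.IsNilpotent ↥N := by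
  by_contra hnil
  obtain ⟨k, hk⟩ := IsPGroup.iff_card.1 S.2
  have key : ∀ q : ℕ, q.Prime → ∃ Q₀ : Sylow q ↥N, (Q₀ : Subgroup ↥N).Normal ∨
      ((Q₀ : Subgroup ↥N).map N.subtype ≤ M ∧
        normalizer (((Q₀ : Subgroup ↥N).map N.subtype : Subgroup G) : Set G) ≤ M) := by
    intro q hq
    haveI : Fact q.Prime := ⟨hq⟩
    obtain ⟨Q₀, hQ₀⟩ := Coprime.exists_invariant_sylow (A := (S : Subgroup G)) (K := N)
      (by rw [normalizer_eq_top]; exact le_top) (hk ▸ (hp'.pow_right k).symm)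
      (Or.inl (Coprime.isSolvable_of_isPGroup S.2)) q
    refine ⟨Q₀, ?_⟩
    by_cases h : normalizer (((Q₀ : Subgroup ↥N).map N.subtype : Subgroup G) : Set G) = ⊤
    · exact Or.inl ((normalizer_eq_top_iff.1 h).comap N.subtype |> fun h' => by
        rwa [comap_map_eq_self_of_injective N.subtype_injective] at h')
    · have := le_of_sylow_le S hM hSM hP hQ₀ h
      exact Or.inr ⟨le_normalizer.trans this, this⟩
  refine hnil (((Group.isNilpotent_of_finite_tfae (G := ↥N)).out 0 3 :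
    Group.IsNilpotent N ↔ ∀ (r : ℕ) (_ : Fact r.Prime) (P : Sylow r N),
      (P : Subgroup N).Normal).2 fun r hr R => ?_)
  obtain ⟨Q₀, h | ⟨hQM, hQN⟩⟩ := key r hr.out
  · obtain ⟨g, rfl⟩ := MulAction.exists_smul_eq (↥N) Q₀ R
    rwa [Sylow.smul_eq_of_normal]
  exfalso
  have hNM : ¬ N ≤ M := by
    intro hle
    refine hM.1 (top_le_iff.1 ?_)
    rw [← Sylow.normalizer_sup_eq_top Q₀]
    exact sup_le hQN hle
  have hON : Cfsg.pResidual p G ≤ N := (le_or_le S hM hSM hP N).resolve_right hNM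
  refine hM.1 (eq_top_of_forall_sylow M fun q hq _ => ?_)
  haveI : Fact q.Prime := ⟨hq⟩
  by_cases hqp : q = p
  · subst hqp; exact ⟨S, hSM⟩
  obtain ⟨Q₁, hQ₁⟩ := key q hq
  obtain ⟨R₁, hR₁⟩ := (Q₁.2.map N.subtype).exists_le_sylow
  have hRN : (R₁ : Subgroup G) ≤ N := (mem_pResidual_of_isPGroup hqp R₁.2).trans hON
  have hReq : (R₁ : Subgroup G) = (Q₁ : Subgroup ↥N).map N.subtype := by
    refine le_antisymm ?_ hR₁
    have h1 := Q₁.3 (R₁.2.comap_subtype (K := N)) (map_le_iff_le_comap.1 hR₁)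
    rw [← h1]
    exact (map_subgroupOf_eq_of_le hRN).ge
  refine ⟨R₁, hReq ▸ ?_⟩
  rcases hQ₁ with h | ⟨h, -⟩
  · haveI : ((Q₁ : Subgroup ↥N).map N.subtype).Normal := by
      haveI : (Q₁ : Subgroup ↥N).Characteristic := Sylow.characteristic_of_normal Q₁ h
      exact ConjAct.normal_of_characteristic_of_normal
    refine (le_or_le S hM hSM hP _).resolve_left fun hle => hnil ?_
    have hNQ : N ≤ (Q₁ : Subgroup ↥N).map N.subtype := fun x hx =>
      hle (PIrred.mem_pResidual (hp'.coprime_dvd_left (by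
        have := orderOf_dvd_natCard (⟨x, hx⟩ : ↥N)
        rwa [orderOf_mk] at this)))
    exact ((Q₁.2.map N.subtype).to_le hNQ).isNilpotent
  · exact h

end Cfsg.Agent.PMinimal

namespace Cfsg.Agent.PMinimal

open Subgroup
open scoped Pointwise

variable {G : Type*} [Group G]

theorem le_normalizer_iSup {ι : Sort*} {T : Subgroup G} (X : ι → Subgroup G)
    (h : ∀ i, T ≤ normalizer (X i : Set G)) :
    T ≤ normalizer ((⨆ i, X i : Subgroup G) : Set G) := by
  rw [le_normalizer_iff]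
  intro g hg x hx
  have hle : (⨆ i, X i) ≤ (⨆ i, X i).comap (MulAut.conj g).toMonoidHom :=
    iSup_le fun i y hy => mem_iSup_of_mem i ((mem_normalizer_iff.1 (h i hg) y).1 hy)
  exact hle hx

/-- `p`-minimality from one Sylow subgroup and one maximal subgroup over it. -/
theorem isPMinimal_of_sylow [Finite G] {p : ℕ} [Fact p.Prime] (S : Sylow p G)
    (hn : ¬ (S : Subgroup G).Normal) (M : Subgroup G) (hM : IsCoatom M)
    (hSM : (S : Subgroup G) ≤ M)
    (hu : ∀ X : Subgroup G, (S : Subgroup G) ≤ X → X ≠ ⊤ → X ≤ M) :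
    Cfsg.IsPMinimal p G := by
  intro T
  obtain ⟨g, rfl⟩ := MulAction.exists_smul_eq G S T
  have hcoe : ((g • S : Sylow p G) : Subgroup G) = MulAut.conj g • (S : Subgroup G) :=
    Sylow.coe_subgroup_smul
  refine ⟨fun h => hn ?_, MulAut.conj g • M, ⟨?_, ?_⟩, ?_⟩
  · have h1 := h.conjAct (ConjAct.toConjAct g⁻¹)
    have h2 : MulAut.conj g⁻¹ • ((g • S : Sylow p G) : Subgroup G) = (S : Subgroup G) := by
      rw [hcoe, map_inv, inv_smul_smul]
    have h3 : MulAut.conj g⁻¹ • ((g • S : Sylow p G) : Subgroup G) =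
        ((g • S : Sylow p G) : Subgroup G) := h1
    rw [h2] at h3
    rw [h3]
    exact h
  · refine ⟨fun h => hM.1 ?_, fun X hX => ?_⟩
    · rw [← inv_smul_smul (MulAut.conj g) M, h]
      exact map_top_of_surjective _ (MulEquiv.surjective _)
    · have h1 : M < (MulAut.conj g)⁻¹ • X := by
        refine lt_of_le_of_ne ?_ fun h2 => hX.ne ?_
        · rw [← inv_smul_smul (MulAut.conj g) M]
          exact pointwise_smul_le_pointwise_smul_iff.2 hX.le
        · rw [h2, smul_inv_smul]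
      rw [← smul_inv_smul (MulAut.conj g) X, hM.2 _ h1]
      exact map_top_of_surjective _ (MulEquiv.surjective _)
  · rw [hcoe]
    exact pointwise_smul_le_pointwise_smul_iff.2 hSM
  · rintro X ⟨hX, hXS⟩
    have h1 : (MulAut.conj g)⁻¹ • X ≤ M := by
      refine hu _ ?_ fun h => hX.1 ?_
      · rw [← inv_smul_smul (MulAut.conj g) (S : Subgroup G), ← hcoe]
        exact pointwise_smul_le_pointwise_smul_iff.2 hXS
      · rw [← smul_inv_smul (MulAut.conj g) X, h]
        exact map_top_of_surjective _ (MulEquiv.surjective _)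
    have h2 : X ≤ MulAut.conj g • M := by
      rw [← smul_inv_smul (MulAut.conj g) X]
      exact pointwise_smul_le_pointwise_smul_iff.2 h1
    refine eq_of_le_of_not_lt h2 fun hlt => hM.1 ?_
    rw [← inv_smul_smul (MulAut.conj g) M, hX.2 _ hlt]
    exact map_top_of_surjective _ (MulEquiv.surjective _)

end Cfsg.Agent.PMinimal
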